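import Mathlib.Algebra.MvPolynomial.PDeriv
import Mathlib.RingTheory.Ideal.Maps
import Mathlib.Algebra.MvPolynomial.CommRing
import Mathlib.Algebra.MvPolynomial.Monad
import Mathlib.LinearAlgebra.Basis.VectorSpace
import Mathlib.Algebra.Algebra.Bilinear

/-!
# Coefficient functionals on `A[X]` for a `k`-algebra `A`
-/

noncomputable section

universe u

open MvPolynomial

namespace Groth.Agent.RigidSing

variable {k A : Type u} [Field k] [CommRing A] [Algebra k A] {σ : Type*}

/-- `Σ a_m X^m ↦ Σ μ(a_m) X^m`. -/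
def lam (μ : A →ₗ[k] k) (p : MvPolynomial σ A) : MvPolynomial σ k :=
  ∑ m ∈ p.support, monomial m (μ (coeff m p))

@[simp] lemma coeff_lam (μ : A →ₗ[k] k) (p : MvPolynomial σ A) (m : σ →₀ ℕ) :
    coeff m (lam μ p) = μ (coeff m p) := by
  classical
  rw [lam, coeff_sum]
  simp only [coeff_monomial]
  rw [Finset.sum_ite_eq']
  split_ifs with h
  · rfl
  · rw [notMem_support_iff.1 h, map_zero]

lemma lam_add (μ : A →ₗ[k] k) (p q : MvPolynomial σ A) : lam μ (p + q) = lam μ p + lam μ q := by
  ext m; simp [MvPolynomial.coeff_sub, coeff_sum]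

lemma lam_sub (μ : A →ₗ[k] k) (p q : MvPolynomial σ A) : lam μ (p - q) = lam μ p - lam μ q := by
  ext m; simp [MvPolynomial.coeff_sub, coeff_sum]

lemma lam_sum (μ : A →ₗ[k] k) {ι : Type*} (s : Finset ι) (p : ι → MvPolynomial σ A) :
    lam μ (∑ i ∈ s, p i) = ∑ i ∈ s, lam μ (p i) := by
  ext m; simp [coeff_sum]

lemma lam_map_mul (μ : A →ₗ[k] k) (g : MvPolynomial σ k) (p : MvPolynomial σ A) :
    lam μ (map (algebraMap k A) g * p) = g * lam μ p := by
  classical
  induction g using MvPolynomial.induction_on' with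
  | monomial s a =>
    ext m
    rw [coeff_lam, map_monomial, coeff_monomial_mul', coeff_monomial_mul']
    split_ifs
    · rw [← Algebra.smul_def, map_smul, smul_eq_mul, coeff_lam]
    · exact map_zero μ
  | add p q hp hq => rw [map_add, add_mul, lam_add, hp, hq, add_mul]

lemma lam_C_mul (μ : A →ₗ[k] k) (a : A) (p : MvPolynomial σ A) :
    lam μ (C a * p) = lam (μ ∘ₗ LinearMap.mulLeft k a) p := by
  ext m; simp [MvPolynomial.coeff_sub, coeff_sum]

lemma lam_mem (μ : A →ₗ[k] k) (J : Ideal (MvPolynomial σ k)) {p : MvPolynomial σ A}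
    (hp : p ∈ Ideal.map (MvPolynomial.map (algebraMap k A)) J) : lam μ p ∈ J := by
  rw [Ideal.map] at hp
  have key : ∀ q, q ∈ Ideal.span (map (algebraMap k A) '' (J : Set (MvPolynomial σ k))) →
      ∀ r, lam μ (r * q) ∈ J := by
    intro q hq
    induction hq using Submodule.span_induction with
    | mem x hx =>
      obtain ⟨g, hg, rfl⟩ := hx
      exact fun r => by rw [mul_comm, lam_map_mul]; exact Ideal.mul_mem_right _ _ hg
    | zero =>
      intro r
      rw [mul_zero]
      have h0 : lam μ (0 : MvPolynomial σ A) = 0 := by ext m; simp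
      rw [h0]; exact zero_mem _
    | add x y _ _ hx hy => exact fun r => by rw [mul_add, lam_add]; exact add_mem (hx r) (hy r)
    | smul s x _ hx => exact fun r => by rw [smul_eq_mul, ← mul_assoc]; exact hx _
  simpa using key p hp 1

lemma mem_map_of_lam (J : Ideal (MvPolynomial σ k)) {p : MvPolynomial σ A}
    (h : ∀ μ : A →ₗ[k] k, lam μ p ∈ J) : p ∈ Ideal.map (MvPolynomial.map (algebraMap k A)) J := by
  classical
  let b := Module.Basis.ofVectorSpace k A
  let s := p.support.biUnion fun m => (b.repr (coeff m p)).support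
  have hp : p = ∑ i ∈ s, C (b i) * map (algebraMap k A) (lam (b.coord i) p) := by
    ext m
    simp only [coeff_sum, coeff_C_mul, coeff_map, coeff_lam, Module.Basis.coord_apply]
    by_cases hm : coeff m p = 0
    · simp [hm]
    rw [Finset.sum_subset (s₁ := (b.repr (coeff m p)).support) (s₂ := s)
      (fun i hi => Finset.mem_biUnion.2 ⟨m, mem_support_iff.2 hm, hi⟩) ?_ |>.symm]
    · conv_lhs => rw [← b.linearCombination_repr (coeff m p), Finsupp.linearCombination_apply, Finsupp.sum]
      exact Finset.sum_congr rfl fun i _ => by rw [Algebra.smul_def, mul_comm]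
    · intro i _ hi
      rw [Finsupp.notMem_support_iff.1 hi, map_zero, mul_zero]
  rw [hp]
  exact Submodule.sum_mem _ fun i _ => Ideal.mul_mem_left _ _ (Ideal.mem_map_of_mem _ (h _))

/-- Multiplication by a nonzerodivisor of `A` stays injective modulo extended ideals. -/
theorem mem_map_of_C_mul_mem (J : Ideal (MvPolynomial σ k)) {a : A}
    (ha : Function.Injective fun x : A => a * x) {p : MvPolynomial σ A}
    (hp : C a * p ∈ Ideal.map (MvPolynomial.map (algebraMap k A)) J) : p ∈ Ideal.map (MvPolynomial.map (algebraMap k A)) J := by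
  refine mem_map_of_lam J fun μ => ?_
  obtain ⟨g, hg⟩ := LinearMap.exists_leftInverse_of_injective (LinearMap.mulLeft k a) (LinearMap.ker_eq_bot.2 ha)
  have h := lam_mem (μ ∘ₗ g) J hp
  rwa [lam_C_mul, LinearMap.comp_assoc, hg, LinearMap.comp_id] at h

end Groth.Agent.RigidSing
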