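import Groth.Agent.RigidSing.Coeff
import Mathlib.RingTheory.Ideal.Quotient.Operations
import Mathlib.RingTheory.Polynomial.Basic
import Mathlib.Algebra.MvPolynomial.Derivation
import Mathlib.LinearAlgebra.Matrix.NonsingularInverse
import Mathlib.LinearAlgebra.Matrix.Determinant.Basic
import Mathlib.Tactic.LinearCombination
import Mathlib.RingTheory.Nilpotent.Basic

/-!
# A rigid singular fibre forces singular nearby fibres: the algebra
-/

noncomputable section

universe u

open MvPolynomial

namespace Groth.Agent.RigidSing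

/-- `∑ ∂_i g · u_i`. -/
def diff {R : Type u} [CommRing R] {n : ℕ} (u : Fin n → MvPolynomial (Fin n) R) (g : MvPolynomial (Fin n) R) :
    MvPolynomial (Fin n) R :=
  ∑ i, pderiv i g * u i

variable {R : Type u} [CommRing R] {n : ℕ} (u : Fin n → MvPolynomial (Fin n) R)

lemma diff_add (p q : MvPolynomial (Fin n) R) : diff u (p + q) = diff u p + diff u q := by
  simp [diff, add_mul, Finset.sum_add_distrib]

lemma diff_sub (p q : MvPolynomial (Fin n) R) : diff u (p - q) = diff u p - diff u q := by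
  simp [diff, sub_mul, Finset.sum_sub_distrib]

lemma diff_mul (p q : MvPolynomial (Fin n) R) : diff u (p * q) = p * diff u q + q * diff u p := by
  simp only [diff, Derivation.leibniz, smul_eq_mul, Finset.mul_sum, ← Finset.sum_add_distrib]
  exact Finset.sum_congr rfl fun i _ => by ring

lemma diff_C_mul (a : R) (p : MvPolynomial (Fin n) R) : diff u (C a * p) = C a * diff u p := by
  rw [diff_mul]
  simp [diff]

/-- First order expansion of a substitution along `δ`. -/
lemma aeval_add_sub_mem (v δ : Fin n → MvPolynomial (Fin n) R) (T : Ideal (MvPolynomial (Fin n) R))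
    (hδ : ∀ i j, δ i * δ j ∈ T) (f : MvPolynomial (Fin n) R) :
    aeval (fun i => v i + δ i) f - aeval v f - ∑ i, aeval v (pderiv i f) * δ i ∈ T := by
  classical
  induction f using MvPolynomial.induction_on with
  | C a => simp
  | add p q hp hq =>
    convert add_mem hp hq using 1
    simp only [map_add, add_mul, Finset.sum_add_distrib]
    ring
  | mul_X p j hp =>
    have h2 : (∑ i, aeval v (pderiv i p) * δ i) * δ j ∈ T := by
      rw [Finset.sum_mul]
      exact Submodule.sum_mem _ fun i _ => by rw [mul_assoc]; exact Ideal.mul_mem_left _ _ (hδ i j)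
    have hs : ∑ i, aeval v (pderiv i (p * X j)) * δ i =
        v j * (∑ i, aeval v (pderiv i p) * δ i) + aeval v p * δ j := by
      rw [Finset.mul_sum]
      simp only [Derivation.leibniz, smul_eq_mul, map_add, map_mul, aeval_X, pderiv_X, add_mul,
        Finset.sum_add_distrib]
      rw [add_comm]
      congr 1
      · exact Finset.sum_congr rfl fun i _ => by ring
      · rw [Finset.sum_eq_single j (fun i _ hi => by simp [hi]) (by simp)]
        simp
    convert add_mem (T.mul_mem_left (v j + δ j) hp) h2 using 1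
    rw [hs, map_mul, map_mul, aeval_X, aeval_X]
    ring

/-- Chain rule. -/
lemma pderiv_aeval (v : Fin n → MvPolynomial (Fin n) R) (f : MvPolynomial (Fin n) R) (j : Fin n) :
    pderiv j (aeval v f) = ∑ i, aeval v (pderiv i f) * pderiv j (v i) := by
  classical
  induction f using MvPolynomial.induction_on with
  | C a => simp
  | add p q hp hq => simp only [map_add, hp, hq, add_mul, Finset.sum_add_distrib]
  | mul_X p l hp =>
    rw [map_mul, aeval_X, Derivation.leibniz, hp, smul_eq_mul, smul_eq_mul, Finset.mul_sum]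
    simp only [Derivation.leibniz, smul_eq_mul, map_add, map_mul, aeval_X, pderiv_X, add_mul,
      Finset.sum_add_distrib]
    congr 1
    · rw [Finset.sum_eq_single l (fun i _ hi => by simp [hi]) (by simp)]
      simp
    · exact Finset.sum_congr rfl fun i _ => by ring

section Data

variable {k A B B₀ : Type u} [Field k] [CommRing A] [Algebra k A] [CommRing B] [Algebra A B] [CommRing B₀]
  [Algebra k B₀] {n : ℕ} (t : A) (ε : A →ₐ[k] k) (φ : MvPolynomial (Fin n) A →ₐ[A] B)
  (φ₀ : MvPolynomial (Fin n) k →ₐ[k] B₀) (π : B →+* B₀)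

/-- Coefficientwise reduction. -/
abbrev red : MvPolynomial (Fin n) A →+* MvPolynomial (Fin n) k := map ε.toRingHom

/-- The constant family of ideals. -/
def JA : Ideal (MvPolynomial (Fin n) A) := Ideal.map (map (algebraMap k A)) (RingHom.ker φ₀)

/-- The constant family modulo `t^m`. -/
def Jm (m : ℕ) : Ideal (MvPolynomial (Fin n) A) := JA φ₀ ⊔ Ideal.span {C t ^ m}

lemma C_pow_mul_mem (m : ℕ) (p : MvPolynomial (Fin n) A) :
    C t ^ m * p ∈ Jm (A := A) t φ₀ m :=
  Ideal.mem_sup_right (Ideal.mul_mem_right _ _ (Ideal.mem_span_singleton_self _))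

variable (hεt : RingHom.ker ε.toRingHom = Ideal.span {t})

include hεt in
lemma exists_sub_eq (p : MvPolynomial (Fin n) A) :
    ∃ w, p - map (algebraMap k A) (red ε p) = C t * w := by
  have h : p - map (algebraMap k A) (red ε p) ∈ Ideal.map C (Ideal.span {t}) := by
    rw [mem_map_C_iff]
    intro m
    rw [coeff_sub, coeff_map, coeff_map, ← hεt, RingHom.mem_ker, map_sub]
    simp
  rw [Ideal.map_span, Set.image_singleton, Ideal.mem_span_singleton] at h
  exact h

include hεt in
lemma red_C_t : red ε (C t : MvPolynomial (Fin n) A) = 0 := by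
  rw [map_C, show ε.toRingHom t = 0 from hεt.ge (Ideal.mem_span_singleton_self t), C_0]

lemma red_map (g : MvPolynomial (Fin n) k) : red ε (map (algebraMap k A) g) = g := by
  ext m; simp [coeff_map]

variable (hπ : ∀ p, π (φ p) = φ₀ (red ε p)) (hkerπ : RingHom.ker π = Ideal.span {algebraMap A B t})
  (hφ : Function.Surjective φ) (hBt : ∀ b : B, algebraMap A B t * b = 0 → b = 0)
  (htA : Function.Injective fun x : A => t * x)

include hπ in
lemma red_mem {f : MvPolynomial (Fin n) A} (hf : φ f = 0) : φ₀ (red ε f) = 0 := by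
  rw [← hπ, hf, map_zero]

include hεt hπ hkerπ hφ in
lemma exists_lift_mem {g : MvPolynomial (Fin n) k} (hg : φ₀ g = 0) :
    ∃ w, φ (map (algebraMap k A) g - C t * w) = 0 := by
  have h : φ (map (algebraMap k A) g) ∈ RingHom.ker π := by
    rw [RingHom.mem_ker, hπ, red_map, hg]
  rw [hkerπ, Ideal.mem_span_singleton] at h
  obtain ⟨b, hb⟩ := h
  obtain ⟨w, rfl⟩ := hφ b
  exact ⟨w, by rw [map_sub, map_mul, hb, ← algebraMap_eq, AlgHom.commutes, sub_self]⟩

/-- `T¹(B₀) = 0`, in coordinates. -/
def Rigid : Prop := ∀ θ : MvPolynomial (Fin n) k → MvPolynomial (Fin n) k,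
  (∀ f g, φ₀ f = 0 → φ₀ g = 0 → φ₀ (θ (f + g)) = φ₀ (θ f) + φ₀ (θ g)) →
  (∀ p f, φ₀ f = 0 → φ₀ (θ (p * f)) = φ₀ p * φ₀ (θ f)) →
  ∃ h : Fin n → MvPolynomial (Fin n) k, ∀ f, φ₀ f = 0 → φ₀ (θ f) = φ₀ (diff h f)

variable (hrig : Rigid φ₀)

include hεt hπ hkerπ hφ hBt htA hrig in
/-- The formal trivialisation. -/
theorem exists_trivialisation : ∀ m : ℕ, ∃ v : Fin n → MvPolynomial (Fin n) A,
    (∀ i, ∃ w, v i - X i = C t * w) ∧ ∀ f, φ f = 0 → aeval v f ∈ Jm (A := A) t φ₀ (m + 1) := by
  classical
  intro m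
  induction m with
  | zero =>
    refine ⟨X, fun i => ⟨0, by simp⟩, fun f hf => ?_⟩
    rw [aeval_X_left_apply]
    obtain ⟨w, hw⟩ := exists_sub_eq t ε hεt f
    rw [sub_eq_iff_eq_add'] at hw
    rw [hw]
    refine add_mem (Ideal.mem_sup_left (Ideal.mem_map_of_mem _ (red_mem ε φ φ₀ π hπ hf))) ?_
    simpa using C_pow_mul_mem t φ₀ 1 w
  | succ m ih =>
    obtain ⟨v, hv, hvI⟩ := ih
    have hex : ∀ f, φ f = 0 → ∃ w, aeval v f - C t ^ (m + 1) * w ∈ JA (A := A) φ₀ := fun f hf => by
      obtain ⟨j, hj, z, hz, hjz⟩ := Submodule.mem_sup.1 (hvI f hf)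
      obtain ⟨w, rfl⟩ := Ideal.mem_span_singleton.1 hz
      exact ⟨w, by rw [← hjz, add_sub_cancel_right]; exact hj⟩
    have huniq : ∀ {p w w' : MvPolynomial (Fin n) A}, p - C t ^ (m + 1) * w ∈ JA φ₀ →
        p - C t ^ (m + 1) * w' ∈ JA φ₀ → φ₀ (red ε w) = φ₀ (red ε w') := by
      intro p w w' h h'
      have h2 : C t ^ (m + 1) * (w' - w) ∈ JA (A := A) φ₀ := by
        convert sub_mem h h' using 1; ring
      have h3 : ∀ l z, C t ^ l * z ∈ JA (A := A) φ₀ → z ∈ JA (A := A) φ₀ := by
        intro l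
        induction l with
        | zero => exact fun z hz => by simpa using hz
        | succ l ihl => exact fun z hz => mem_map_of_C_mul_mem _ htA (ihl _ (by rwa [pow_succ, mul_assoc] at hz))
      have h4 := h3 _ _ h2
      have h5 : φ₀ (red ε (w' - w)) = 0 := by
        have hle : JA (A := A) φ₀ ≤ (RingHom.ker φ₀).comap (red ε) :=
          Ideal.map_le_iff_le_comap.2 fun g hg => by rw [Ideal.mem_comap, Ideal.mem_comap, red_map]; exact hg
        exact hle h4
      rw [map_sub, map_sub, sub_eq_zero] at h5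
      exact h5.symm
    have hv_red : ∀ p, red ε (aeval v p) = red ε p := fun p => by
      induction p using MvPolynomial.induction_on with
      | C a => rw [aeval_C, algebraMap_eq]
      | add p q hp hq => simp only [map_add, hp, hq]
      | mul_X p i hp =>
        obtain ⟨w, hw⟩ := hv i
        rw [map_mul, map_mul, map_mul, hp, aeval_X, sub_eq_iff_eq_add.1 hw, map_add, map_mul, red_C_t t ε hεt,
          zero_mul, zero_add]
    -- the obstruction
    choose! lift hlift using fun g (hg : φ₀ g = 0) => exists_lift_mem t ε φ φ₀ π hεt hπ hkerπ hφ hg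
    choose! W hW using hex
    let F : MvPolynomial (Fin n) k → MvPolynomial (Fin n) A := fun g => map (algebraMap k A) g - C t * lift g
    let θ : MvPolynomial (Fin n) k → MvPolynomial (Fin n) k := fun g => red ε (W (F g))
    have hFI : ∀ g, φ₀ g = 0 → φ (F g) = 0 := hlift
    have hredF : ∀ g, red ε (F g) = g := fun g => by
      rw [map_sub, map_mul, red_C_t t ε hεt, zero_mul, sub_zero, red_map]
    have hθ : ∀ f, φ f = 0 → φ₀ (red ε (W f)) = φ₀ (θ (red ε f)) := by
      intro f hf
      have hF := hFI _ (red_mem ε φ φ₀ π hπ hf)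
      obtain ⟨z, hz⟩ : ∃ z, f - F (red ε f) = C t * z := by
        obtain ⟨w, hw⟩ := exists_sub_eq t ε hεt (f - F (red ε f))
        refine ⟨w, ?_⟩
        rwa [map_sub, hredF, sub_self, map_zero, sub_zero] at hw
      have hzI : φ z = 0 := by
        refine hBt _ ?_
        rw [← AlgHom.commutes φ t, algebraMap_eq, ← map_mul, ← hz, map_sub, hf, hF, sub_zero]
      refine huniq (p := aeval v f) (hW f hf) ?_ |>.trans (b := φ₀ (red ε (W (F (red ε f)) + C t * W z))) ?_
      · have h1 := add_mem (hW _ hF) (Ideal.mul_mem_left _ (C t) (hW z hzI))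
        convert h1 using 1
        rw [← sub_add_cancel f (F (red ε f)), hz, map_add, map_mul, aeval_C, algebraMap_eq]
        rw [map_add, map_mul, red_C_t t ε hεt, zero_mul, zero_add, hredF]
        ring
      · rw [map_add, map_mul, red_C_t t ε hεt, zero_mul, add_zero]
    have hadd : ∀ f g, φ₀ f = 0 → φ₀ g = 0 → φ₀ (θ (f + g)) = φ₀ (θ f) + φ₀ (θ g) := by
      intro f g hf hg
      have h1 := hFI f hf
      have h2 := hFI g hg
      have h3 : φ (F f + F g) = 0 := by rw [map_add, h1, h2, add_zero]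
      have h4 := hθ _ h3
      rw [map_add, hredF, hredF] at h4
      rw [← h4, ← map_add, ← map_add]
      refine huniq (hW _ h3) ?_
      convert add_mem (hW _ h1) (hW _ h2) using 1
      rw [map_add]; ring
    have hmul : ∀ p f, φ₀ f = 0 → φ₀ (θ (p * f)) = φ₀ p * φ₀ (θ f) := by
      intro p f hf
      have h1 := hFI f hf
      have h3 : φ (map (algebraMap k A) p * F f) = 0 := by rw [map_mul, h1, mul_zero]
      have h4 := hθ _ h3
      rw [map_mul, hredF, red_map] at h4
      rw [← h4]
      refine (huniq (hW _ h3) (w' := aeval v (map (algebraMap k A) p) * W (F f)) ?_).trans ?_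
      · convert Ideal.mul_mem_left _ (aeval v (map (algebraMap k A) p)) (hW _ h1) using 1
        rw [map_mul]; ring
      · rw [map_mul, map_mul, hv_red, red_map]
    obtain ⟨h, hh⟩ := hrig θ hadd hmul
    let hA : Fin n → MvPolynomial (Fin n) A := fun i => map (algebraMap k A) (h i)
    refine ⟨fun i => v i + -(C t ^ (m + 1) * hA i), fun i => ?_, fun f hf => ?_⟩
    · obtain ⟨w, hw⟩ := hv i
      refine ⟨w - C t ^ m * hA i, ?_⟩
      rw [mul_sub, ← hw, pow_succ]; ring
    · have hsq : ∀ i j, -(C t ^ (m + 1) * hA i) * -(C t ^ (m + 1) * hA j) ∈ Jm (A := A) t φ₀ (m + 2) := by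
        intro i j
        rw [show -(C t ^ (m + 1) * hA i) * -(C t ^ (m + 1) * hA j) = C t ^ (m + 2) * (C t ^ m * (hA i * hA j)) by ring]
        exact C_pow_mul_mem t φ₀ _ _
      have h1 := aeval_add_sub_mem v (fun i => -(C t ^ (m + 1) * hA i)) _ hsq f
      let D := ∑ i, aeval v (pderiv i f) * hA i
      obtain ⟨z, hz⟩ := exists_sub_eq t ε hεt (W f - D)
      have h2 : φ₀ (red ε (W f - D)) = 0 := by
        rw [map_sub, map_sub, hθ f hf, hh _ (red_mem ε φ φ₀ π hπ hf), sub_eq_zero]
        congr 1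
        simp only [D, diff, hA, map_sum, map_mul, hv_red, red_map, pderiv_map]
      have h3 : C t ^ (m + 1) * (W f - D) ∈ Jm (A := A) t φ₀ (m + 2) := by
        rw [sub_eq_iff_eq_add.1 hz, mul_add, ← mul_assoc, ← pow_succ]
        exact add_mem (C_pow_mul_mem t φ₀ _ z)
          (Ideal.mul_mem_left _ _ (Ideal.mem_sup_left (Ideal.mem_map_of_mem _ h2)))
      convert add_mem (add_mem h1 (Ideal.mem_sup_left (hW f hf))) h3 using 1
      have hs : ∑ i, aeval v (pderiv i f) * -(C t ^ (m + 1) * hA i) = -(C t ^ (m + 1) * D) := by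
        rw [Finset.mul_sum, ← Finset.sum_neg_distrib]
        exact Finset.sum_congr rfl fun i _ => by ring
      rw [hs]; ring

/-- The singular ideal contains a power of `t` in the following sense. -/
def Split (N : ℕ) : Prop := ∃ s : Fin n → MvPolynomial (Fin n) A,
  (∀ i, φ (s i) = 0) ∧ ∀ f, φ f = 0 → diff s f - C t ^ N * f ∈ RingHom.ker φ * RingHom.ker φ

include hεt hπ hkerπ hφ hBt htA hrig in
/-- A rigid fibre and a power of `t` in the singular ideal force the fibre to be smooth. -/
theorem exists_retraction (lam0 : A →ₗ[k] k) (N : ℕ) (hlamN : lam0 (t ^ N) = 1)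
    (hlam : ∀ a, lam0 (t ^ (N + 1) * a) = 0) (hsplit : Split (A := A) t φ N) :
    ∃ u : Fin n → MvPolynomial (Fin n) k, (∀ i, φ₀ (u i) = 0) ∧
      ∀ g, φ₀ g = 0 → diff u g - g ∈ RingHom.ker φ₀ * RingHom.ker φ₀ := by
  classical
  obtain ⟨s, hs, hsf⟩ := hsplit
  obtain ⟨v, hv, hvI⟩ := exists_trivialisation t ε φ φ₀ π hεt hπ hkerπ hφ hBt htA hrig N
  choose w hw using hv
  let T : Ideal (MvPolynomial (Fin n) A) := JA φ₀ * JA φ₀ ⊔ Ideal.span {C t ^ (N + 1)}
  let Q := MvPolynomial (Fin n) A ⧸ T
  let J' := Jm (A := A) t φ₀ (N + 1)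
  have hJT : ∀ a ∈ J', ∀ b ∈ J', a * b ∈ T := by
    intro a ha b hb
    obtain ⟨a₁, ha₁, a₂, ha₂, rfl⟩ := Submodule.mem_sup.1 ha
    obtain ⟨b₁, hb₁, b₂, hb₂, rfl⟩ := Submodule.mem_sup.1 hb
    rw [show (a₁ + a₂) * (b₁ + b₂) = a₁ * b₁ + (a₁ * b₂ + a₂ * (b₁ + b₂)) by ring]
    exact add_mem (Ideal.mem_sup_left (Ideal.mul_mem_mul ha₁ hb₁))
      (Ideal.mem_sup_right (add_mem (Ideal.mul_mem_left _ _ hb₂) (Ideal.mul_mem_right _ _ ha₂)))
  -- invert the Jacobian of the substitution
  let M : Matrix (Fin n) (Fin n) (MvPolynomial (Fin n) A) := Matrix.of fun i j => pderiv j (v i)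
  let mk := Ideal.Quotient.mk T
  have hdet : IsUnit (mk M.det) := by
    let q₁ := Ideal.Quotient.mk (Ideal.span {(C t : MvPolynomial (Fin n) A)})
    have h1 : q₁.mapMatrix M = 1 := by
      ext i j
      simp only [M, RingHom.mapMatrix_apply, Matrix.map_apply, Matrix.of_apply, sub_eq_iff_eq_add.1 (hw i), map_add,
        pderiv_mul, pderiv_C, zero_mul, zero_add]
      rw [map_mul, Ideal.Quotient.eq_zero_iff_mem.2 (Ideal.mem_span_singleton_self _), zero_mul, zero_add,
        pderiv_X]
      simp [Matrix.one_apply, Pi.single_apply, apply_ite q₁]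
    have h2 : q₁ (M.det - 1) = 0 := by rw [map_sub, RingHom.map_det, h1, Matrix.det_one, map_one, sub_self]
    obtain ⟨z, hz⟩ := Ideal.mem_span_singleton.1 (Ideal.Quotient.eq_zero_iff_mem.1 h2)
    rw [sub_eq_iff_eq_add'.1 hz, map_add, map_one]
    refine IsNilpotent.isUnit_one_add ⟨N + 1, ?_⟩
    rw [← map_pow, mul_pow]
    exact Ideal.Quotient.eq_zero_iff_mem.2 (Ideal.mem_sup_right (Ideal.mul_mem_right _ _ (Ideal.mem_span_singleton_self _)))
  obtain ⟨d, hd⟩ := Ideal.Quotient.mk_surjective (hdet.unit⁻¹ : (Q)ˣ).1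
  let u : Fin n → MvPolynomial (Fin n) A := fun j => d * (M.adjugate.mulVec fun i => aeval v (s i)) j
  have hu : ∀ j, u j ∈ J' := fun j => Ideal.mul_mem_left _ _ (by
    rw [Matrix.mulVec, dotProduct]
    exact Submodule.sum_mem _ fun i _ => Ideal.mul_mem_left _ _ (hvI _ (hs i)))
  have hchain : ∀ f : MvPolynomial (Fin n) A, mk (diff u (aeval v f)) = mk (∑ i, aeval v (pderiv i f) * aeval v (s i)) := by
    intro f
    let g : Fin n → MvPolynomial (Fin n) A := fun i => aeval v (pderiv i f)
    let b : Fin n → MvPolynomial (Fin n) A := fun i => aeval v (s i)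
    have h1 : diff u (aeval v f) = d * (M.det * ∑ i, g i * b i) := by
      have hcalc : ∑ j, (∑ i, g i * M i j) * (M.adjugate.mulVec b) j = M.det * ∑ i, g i * b i := by
        have h2 : dotProduct (Matrix.vecMul g M) (M.adjugate.mulVec b) = M.det * dotProduct g b := by
          rw [← Matrix.dotProduct_mulVec, Matrix.mulVec_mulVec, Matrix.mul_adjugate, Matrix.smul_mulVec,
            Matrix.one_mulVec, dotProduct_smul, smul_eq_mul]
        exact h2
      rw [← hcalc, Finset.mul_sum]
      refine Finset.sum_congr rfl fun j _ => ?_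
      change pderiv j (aeval v f) * (d * _) = _
      rw [pderiv_aeval]
      simp only [M, Matrix.of_apply, g]
      ring
    rw [h1, ← mul_assoc, map_mul, map_mul, hd, IsUnit.val_inv_mul, one_mul]
  let G : Ideal (MvPolynomial (Fin n) A) :=
    { carrier := {g | g ∈ J' ∧ mk (diff u g) = mk (C t ^ N * g)}
      add_mem' := fun {a b} ha hb => ⟨add_mem ha.1 hb.1, by rw [diff_add, map_add, ha.2, hb.2, mul_add, map_add]⟩
      zero_mem' := ⟨zero_mem _, by simp [diff]⟩
      smul_mem' := fun p a ha => ⟨Ideal.mul_mem_left _ _ ha.1, by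
        have h : mk (a * diff u p) = 0 := Ideal.Quotient.eq_zero_iff_mem.2 (hJT a ha.1 _
          (Submodule.sum_mem _ fun i _ => Ideal.mul_mem_left _ _ (hu i)))
        rw [smul_eq_mul, diff_mul, map_add, h, add_zero, map_mul, ha.2, ← map_mul]
        congr 1; ring⟩ }
  have htop : ∀ p, C t ^ (N + 1) * p ∈ G := fun p => ⟨C_pow_mul_mem t φ₀ _ p, by
    rw [← map_pow, diff_C_mul, map_pow]
    have hz : ∀ q : MvPolynomial (Fin n) A, mk (C t ^ (N + 1) * q) = 0 := fun q =>
      Ideal.Quotient.eq_zero_iff_mem.2 (Ideal.mem_sup_right (Ideal.mul_mem_right _ _ (Ideal.mem_span_singleton_self _)))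
    rw [hz, show C t ^ N * (C t ^ (N + 1) * p) = C t ^ (N + 1) * (C t ^ N * p) by ring, hz]⟩
  have hσI : ∀ f, φ f = 0 → aeval v f ∈ G := fun f hf => by
    refine ⟨hvI f hf, ?_⟩
    rw [hchain]
    have h : ∀ y ∈ RingHom.ker φ * RingHom.ker φ, mk (aeval v y) = 0 := fun y hy => by
      refine Submodule.mul_induction_on hy (fun a ha b hb => ?_) fun a b ha hb => by rw [map_add, map_add, ha, hb, add_zero]
      rw [map_mul]
      exact Ideal.Quotient.eq_zero_iff_mem.2 (hJT _ (hvI a ha) _ (hvI b hb))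
    have h2 := h _ (hsf f hf)
    rw [map_sub, map_sub, sub_eq_zero] at h2
    simpa [diff, map_sum] using h2
  have hJG : ∀ l : ℕ, ∀ j ∈ JA (A := A) φ₀, ∃ z ∈ J', j - C t ^ l * z ∈ G := by
    intro l
    induction l with
    | zero => exact fun j hj => ⟨j, Ideal.mem_sup_left hj, by simp⟩
    | succ l ih =>
      intro j hj
      obtain ⟨z, hz, hjz⟩ := ih j hj
      have hz0 : φ₀ (red ε z) = 0 := by
        have hle : J' ≤ (RingHom.ker φ₀).comap (red ε) := sup_le
          (Ideal.map_le_iff_le_comap.2 fun g hg => by rw [Ideal.mem_comap, Ideal.mem_comap, red_map]; exact hg)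
          (Ideal.span_le.2 fun y hy => by
            rw [Set.mem_singleton_iff] at hy
            simp [hy, red_C_t t ε hεt])
        exact hle hz
      obtain ⟨y, hy⟩ := exists_lift_mem t ε φ φ₀ π hεt hπ hkerπ hφ hz0
      obtain ⟨z₁, hz₁⟩ : ∃ z₁, z - aeval v (map (algebraMap k A) (red ε z) - C t * y) = C t * z₁ := by
        obtain ⟨z₁, hz₁⟩ := exists_sub_eq t ε hεt (z - aeval v (map (algebraMap k A) (red ε z) - C t * y))
        refine ⟨z₁, ?_⟩
        have hred : red ε (aeval v (map (algebraMap k A) (red ε z) - C t * y)) = red ε z := by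
          have hv_red : ∀ p, red ε (aeval v p) = red ε p := fun p => by
            induction p using MvPolynomial.induction_on with
            | C a => rw [aeval_C, algebraMap_eq]
            | add p q hp hq => simp only [map_add, hp, hq]
            | mul_X p i hp =>
              rw [map_mul, map_mul, map_mul, hp, aeval_X, sub_eq_iff_eq_add.1 (hw i), map_add, map_mul,
                red_C_t t ε hεt, zero_mul, zero_add]
          rw [hv_red, map_sub, map_mul, red_C_t t ε hεt, zero_mul, sub_zero, red_map]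
        rwa [map_sub (red (n := n) ε) z, hred, sub_self, map_zero, sub_zero] at hz₁
      have hmem : C t * z₁ ∈ J' := hz₁ ▸ sub_mem hz (hvI _ hy)
      obtain ⟨a, ha, b, hb, hab⟩ := Submodule.mem_sup.1 hmem
      obtain ⟨c, rfl⟩ := Ideal.mem_span_singleton.1 hb
      have ha' : z₁ - C t ^ N * c ∈ JA (A := A) φ₀ := by
        refine mem_map_of_C_mul_mem _ htA ?_
        show C t * (z₁ - C t ^ N * c) ∈ JA (A := A) φ₀
        convert ha using 1
        rw [mul_sub, ← hab, ← mul_assoc, ← pow_succ']; ring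
      refine ⟨z₁ - C t ^ N * c, Ideal.mem_sup_left ha', ?_⟩
      have h1 := add_mem (add_mem hjz (G.mul_mem_left (C t ^ l) (hσI _ hy))) (G.mul_mem_left (C t ^ l) (htop c))
      convert h1 using 1
      linear_combination (C t ^ l) * hz₁
  refine ⟨fun i => lam lam0 (u i), fun i => ?_, fun g hg => ?_⟩
  · obtain ⟨a, ha, b, hb, hab⟩ := Submodule.mem_sup.1 (hu i)
    obtain ⟨c, rfl⟩ := Ideal.mem_span_singleton.1 hb
    have hc : lam lam0 (C t ^ (N + 1) * c) = 0 := by
      ext m; rw [coeff_lam, ← map_pow, coeff_C_mul, hlam, coeff_zero]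
    show φ₀ (lam lam0 (u i)) = 0
    rw [← hab, lam_add, hc, add_zero]
    exact lam_mem lam0 _ ha
  · obtain ⟨z, hz, hgz⟩ := hJG (N + 1) (map (algebraMap k A) g) (Ideal.mem_map_of_mem _ hg)
    have hG := add_mem hgz (htop z)
    rw [sub_add_cancel] at hG
    obtain ⟨a, ha, b, hb, hab⟩ := Submodule.mem_sup.1 (Ideal.Quotient.eq.1 hG.2)
    obtain ⟨c, rfl⟩ := Ideal.mem_span_singleton.1 hb
    have h1 : lam lam0 (diff u (map (algebraMap k A) g)) = diff (fun i => lam lam0 (u i)) g := by
      simp only [diff, lam_sum, pderiv_map, lam_map_mul]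
    have h2 : lam lam0 (C t ^ N * map (algebraMap k A) g) = g := by
      rw [mul_comm, lam_map_mul]
      conv_rhs => rw [← mul_one g]
      congr 1
      ext m
      rw [coeff_lam, ← map_pow, ← C_1, coeff_C, coeff_C]
      split_ifs
      · exact hlamN
      · exact map_zero _
    have hc : lam lam0 (C t ^ (N + 1) * c) = 0 := by
      ext m; rw [coeff_lam, ← map_pow, coeff_C_mul, hlam, coeff_zero]
    have h4 := congrArg (lam lam0) hab
    rw [lam_add, hc, add_zero, lam_sub, h1, h2] at h4
    rw [← h4]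
    rw [JA, ← Ideal.map_mul] at ha
    exact lam_mem lam0 _ ha

end Data

end Groth.Agent.RigidSing
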