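import Groth.Agent.RigidSing.Main
import Groth.Agent.CotTLib.Low

/-!
# `T¹ = 0` in coordinates
-/

noncomputable section

universe u

open MvPolynomial TensorProduct

namespace Groth.Agent.RigidSing

variable {k B₀ : Type u} [Field k] [CommRing B₀] [Algebra k B₀] {n : ℕ} (φ₀ : MvPolynomial (Fin n) k →ₐ[k] B₀)

variable {φ₀} in
lemma theta_zero_of_mem_sq {θ : MvPolynomial (Fin n) k → MvPolynomial (Fin n) k}
    (hadd : ∀ f g, φ₀ f = 0 → φ₀ g = 0 → φ₀ (θ (f + g)) = φ₀ (θ f) + φ₀ (θ g))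
    (hmul : ∀ p f, φ₀ f = 0 → φ₀ (θ (p * f)) = φ₀ p * φ₀ (θ f))
    {y : MvPolynomial (Fin n) k} (hy : y ∈ RingHom.ker φ₀ * RingHom.ker φ₀) : φ₀ (θ y) = 0 := by
  suffices φ₀ y = 0 ∧ φ₀ (θ y) = 0 from this.2
  refine Submodule.mul_induction_on hy (fun a ha b hb => ?_) fun a b ha hb => ?_
  · rw [RingHom.mem_ker] at ha hb
    exact ⟨by rw [map_mul, ha, zero_mul], by rw [hmul a b hb, ha, zero_mul]⟩
  · exact ⟨by rw [map_add, ha.1, hb.1, add_zero], by rw [hadd a b ha.1 hb.1, ha.2, hb.2, add_zero]⟩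

theorem rigid_of_subsingleton_T1 (hφ₀ : Function.Surjective φ₀)
    (h : Subsingleton (CotT.T1 (CotT.canon k B₀) B₀)) : Rigid φ₀ := by
  intro θ hadd hmul
  let P := CotT.canon k B₀
  let R := P.toExtension.Ring
  have hsurj : Function.Surjective φ₀ := hφ₀
  choose sec hsec using hsurj
  let ℓ : R →ₐ[k] MvPolynomial (Fin n) k := aeval (R := k) (fun b : B₀ => sec b)
  have hval : ∀ r : R, φ₀ (ℓ r) = algebraMap R B₀ r := by
    intro r
    rw [CotT.algebraMap_toExtension]
    change (φ₀.comp ℓ) r = aeval P.val r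
    congr 1
    refine MvPolynomial.algHom_ext fun b => ?_
    change φ₀ (ℓ (X b)) = aeval P.val (X b)
    rw [aeval_X]
    change φ₀ (aeval (R := k) (fun b : B₀ => sec b) (X b)) = b
    rw [aeval_X, hsec]
  have hker : ∀ {r : R}, r ∈ P.toExtension.ker → φ₀ (ℓ r) = 0 := fun {r} hr => (hval r).trans hr
  let g : P.toExtension.ker → B₀ := fun x => φ₀ (θ (ℓ x.1))
  have gadd : ∀ x y, g (x + y) = g x + g y := fun x y => by
    change φ₀ (θ (ℓ (x.1 + y.1))) = _
    rw [map_add ℓ, hadd _ _ (hker x.2) (hker y.2)]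
  have gsmul : ∀ (r : R) x, g (r • x) = algebraMap R B₀ r * g x := fun r x => by
    change φ₀ (θ (ℓ (r * x.1))) = _
    rw [map_mul ℓ, hmul _ _ (hker x.2), hval]
  have gwd : ∀ x y, Algebra.Extension.Cotangent.mk x = Algebra.Extension.Cotangent.mk y → g x = g y := by
    intro x y hxy
    rw [Algebra.Extension.Cotangent.mk_eq_mk_iff_sub_mem, sq] at hxy
    have hz : φ₀ (θ (ℓ (x.1 - y.1))) = 0 := by
      refine theta_zero_of_mem_sq hadd hmul ?_
      refine Submodule.mul_induction_on hxy (fun a ha b hb => ?_) fun a b ha hb => ?_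
      · rw [map_mul ℓ]; exact Ideal.mul_mem_mul (hker ha) (hker hb)
      · rw [map_add ℓ]; exact add_mem ha hb
    have h2 := gadd (x - y) y
    rw [sub_add_cancel] at h2
    rw [h2, show g (x - y) = 0 from hz, zero_add]
  let inv := Function.surjInv (Algebra.Extension.Cotangent.mk_surjective (P := P.toExtension))
  have hinv : ∀ z, Algebra.Extension.Cotangent.mk (inv z) = z := Function.surjInv_eq _
  let c : P.toExtension.Cotangent →ₗ[B₀] B₀ :=
    { toFun := fun z => g (inv z)
      map_add' := fun z w => by rw [← gadd]; exact gwd _ _ (by rw [map_add, hinv, hinv, hinv])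
      map_smul' := fun b z => by
        obtain ⟨r, rfl⟩ := P.toExtension.algebraMap_surjective b
        rw [RingHom.id_apply, smul_eq_mul, ← gsmul]
        refine gwd _ _ ?_
        rw [map_smul, hinv, hinv, algebraMap_smul] }
  have hc : c ∈ LinearMap.ker (CotT.homToT1 P B₀) := h.elim _ _
  rw [CotTLib.ker_homToT1] at hc
  obtain ⟨ψ, hψ⟩ := hc
  have hθψ : ∀ r (hr : r ∈ P.toExtension.ker),
      φ₀ (θ (ℓ r)) = ψ (1 ⊗ₜ KaehlerDifferential.D k R r) := by
    intro r hr
    have h1 : c (Algebra.Extension.Cotangent.mk ⟨r, hr⟩) = g ⟨r, hr⟩ := gwd _ _ (hinv _)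
    rw [← hψ] at h1
    exact h1.symm
  let xb : Fin n → B₀ := fun i => φ₀ (X i)
  let j : MvPolynomial (Fin n) k →ₐ[k] R := aeval (R := k) (S₁ := R) fun i => (X (xb i) : MvPolynomial B₀ k)
  have hjval : ∀ f, algebraMap R B₀ (j f) = φ₀ f := by
    intro f
    rw [← hval]
    change ((φ₀.comp ℓ).comp j) f = φ₀ f
    congr 1
    refine MvPolynomial.algHom_ext fun i => ?_
    change φ₀ (ℓ (j (X i))) = _
    rw [show j (X i) = (X (xb i) : MvPolynomial B₀ k) from aeval_X _ i]
    change φ₀ (aeval (R := k) (fun b : B₀ => sec b) (X (xb i))) = _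
    rw [aeval_X, hsec]
  let hb : Fin n → B₀ := fun i => ψ (1 ⊗ₜ KaehlerDifferential.D k R (X (xb i) : MvPolynomial B₀ k))
  have hD : ∀ f, ψ (1 ⊗ₜ KaehlerDifferential.D k R (j f)) = ∑ i, φ₀ (pderiv i f) * hb i := by
    intro f
    induction f using MvPolynomial.induction_on with
    | C a =>
      have hc : j (C a) = algebraMap k R a := aeval_C _ _
      simp [hc]
    | add p q hp hq =>
      rw [map_add j, map_add, tmul_add, map_add, hp, hq, ← Finset.sum_add_distrib]
      simp only [map_add, add_mul]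
    | mul_X p l hp =>
      have hsmul : ∀ (r : R) (ω : Ω[R⁄k]), ψ ((1 : B₀) ⊗ₜ (r • ω)) = algebraMap R B₀ r * ψ (1 ⊗ₜ ω) := fun r ω => by
        rw [← smul_eq_mul, ← map_smul, smul_tmul', smul_eq_mul, mul_one, ← smul_tmul, Algebra.smul_def, mul_one]
      rw [map_mul j, Derivation.leibniz, tmul_add, map_add, hsmul, hsmul, hp, hjval, hjval,
        show j (X l) = (X (xb l) : MvPolynomial B₀ k) from aeval_X _ l]
      change φ₀ p * hb l + _ = _
      rw [Finset.mul_sum]
      simp only [Derivation.leibniz, smul_eq_mul, map_add, map_mul, add_mul, Finset.sum_add_distrib]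
      congr 1
      · rw [Finset.sum_eq_single l (fun i _ hi => by simp [pderiv_X, hi]) (by simp)]
        simp [pderiv_X]
      · exact Finset.sum_congr rfl fun i _ => by ring
  let δ : Fin n → MvPolynomial (Fin n) k := fun i => sec (xb i) - X i
  have hδ : ∀ i, φ₀ (δ i) = 0 := fun i => by rw [map_sub, hsec, sub_self]
  choose hl hhl using fun i => hφ₀ (hb i - φ₀ (θ (δ i)))
  refine ⟨hl, fun f hf => ?_⟩
  let J := RingHom.ker φ₀
  have hT := aeval_add_sub_mem X δ (J * J) (fun i j => Ideal.mul_mem_mul (hδ i) (hδ j)) f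
  have hℓj : ℓ (j f) = aeval (fun i => X i + δ i) f := by
    change (ℓ.comp j) f = _
    congr 1
    refine MvPolynomial.algHom_ext fun i => ?_
    change ℓ (j (X i)) = _
    rw [show j (X i) = (X (xb i) : MvPolynomial B₀ k) from aeval_X _ i, aeval_X]
    change aeval (R := k) (fun b : B₀ => sec b) (X (xb i)) = _
    rw [aeval_X]
    simp only [δ, add_sub_cancel]
  have hjf : j f ∈ P.toExtension.ker := (hjval f).trans hf
  rw [← hℓj, aeval_X_left_apply] at hT
  simp only [aeval_X_left_apply] at hT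
  have hS : φ₀ (∑ i, pderiv i f * δ i) = 0 := by simp [hδ]
  have hS2 : ∀ s : Finset (Fin n), φ₀ (θ (∑ i ∈ s, pderiv i f * δ i)) = ∑ i ∈ s, φ₀ (pderiv i f) * φ₀ (θ (δ i)) := by
    intro s
    classical
    induction s using Finset.induction_on with
    | empty =>
      simp only [Finset.sum_empty]
      have := hmul 0 0 (map_zero φ₀)
      simpa using this
    | insert a s ha ih =>
      rw [Finset.sum_insert ha, Finset.sum_insert ha, hadd _ _ (by rw [map_mul, hδ, mul_zero]) (by simp [hδ]),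
        hmul _ _ (hδ a), ih]
  have e2 : ℓ (j f) = f + ∑ i, pderiv i f * δ i + (ℓ (j f) - f - ∑ i, pderiv i f * δ i) := by ring
  have e3 := hθψ _ hjf
  have hfS : φ₀ (f + ∑ i, pderiv i f * δ i) = 0 := by rw [map_add, hf, hS, add_zero]
  have hrest : φ₀ (ℓ (j f) - f - ∑ i, pderiv i f * δ i) = 0 := by
    rw [map_sub, map_sub, hker hjf, hf, hS, sub_zero, sub_zero]
  rw [e2, hadd _ _ hfS hrest, hadd _ _ hf hS, theta_zero_of_mem_sq hadd hmul hT, add_zero, hS2, hD] at e3
  simp only [diff, map_sum, map_mul, hhl, mul_sub, Finset.sum_sub_distrib]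
  rw [← e3, add_sub_cancel_right]

end Groth.Agent.RigidSing
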