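import Groth.Agent.RigidSing.Split
import Groth.Agent.CotTLib.Low
import Groth.Agent.CotTLib.Invariance
import Mathlib.RingTheory.Smooth.Basic
import Mathlib.RingTheory.Extension.Cotangent.Basic

/-!
# Powers of `c` in the singular ideal, formal smoothness of `B_c` and annihilation of `T¹`
-/

noncomputable section

universe u

open MvPolynomial TensorProduct

namespace Groth.Agent.RigidSing

variable {A B : Type u} [CommRing A] [CommRing B] [Algebra A B] {n : ℕ}
  (φ : MvPolynomial (Fin n) A →ₐ[A] B) (hφ : Function.Surjective φ)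

include hφ in
theorem formallySmooth_away_of_split (c : A) (N : ℕ) (h : Split (A := A) c φ N) :
    Algebra.FormallySmooth A (Localization.Away (algebraMap A B c)) := by
  obtain ⟨s, hs, hsf⟩ := h
  refine Algebra.FormallySmooth.of_comp_surjective fun {E} _ _ I hI h => ?_
  let ιB : B →ₐ[A] Localization.Away (algebraMap A B c) := IsScalarTower.toAlgHom A B _
  let mk := Ideal.Quotient.mkₐ A I
  choose e he using fun i => Ideal.Quotient.mkₐ_surjective A I (h (ιB (φ (X i))))
  let χ : MvPolynomial (Fin n) A →ₐ[A] E := aeval e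
  have hχ : ∀ p, mk (χ p) = h (ιB (φ p)) := fun p => by
    change (mk.comp χ) p = (h.comp (ιB.comp φ)) p
    congr 1
    exact MvPolynomial.algHom_ext fun i => by simpa [χ, mk] using he i
  have hI2 : ∀ a ∈ I, ∀ b ∈ I, a * b = 0 := fun a ha b hb => by
    rw [← Ideal.mem_bot, ← hI, pow_two]; exact Ideal.mul_mem_mul ha hb
  have hcu : IsUnit (algebraMap A E c) := by
    obtain ⟨w, hw⟩ := Ideal.Quotient.mkₐ_surjective A I (h ↑(IsLocalization.Away.algebraMap_isUnit
      (S := Localization.Away (algebraMap A B c)) (algebraMap A B c)).unit⁻¹)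
    have h1 : algebraMap A E c * w - 1 ∈ I := by
      rw [← Ideal.Quotient.eq]
      change mk _ = mk 1
      rw [map_mul, map_one, AlgHom.commutes, hw, ← h.commutes c, ← map_mul,
        IsScalarTower.algebraMap_apply A B (Localization.Away (algebraMap A B c)) c, IsUnit.mul_val_inv, map_one]
    have h2 : IsUnit (1 + (algebraMap A E c * w - 1)) :=
      IsNilpotent.isUnit_one_add ⟨2, by rw [pow_two]; exact hI2 _ h1 _ h1⟩
    rw [add_sub_cancel] at h2
    exact isUnit_of_mul_isUnit_left h2
  obtain ⟨d, hd⟩ := (hcu.pow N).exists_left_inv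
  have hsI : ∀ i, χ (s i) ∈ I := fun i => by
    rw [← Ideal.Quotient.eq_zero_iff_mem]
    exact (hχ (s i)).trans (by rw [hs, map_zero, map_zero])
  let e' : Fin n → E := fun i => e i - d * χ (s i)
  have hexp : ∀ p, aeval e' p = χ p - d * ∑ i, χ (pderiv i p) * χ (s i) := by
    intro p
    induction p using MvPolynomial.induction_on with
    | C a => simp [χ]
    | add p q hp hq =>
      simp only [map_add, hp, hq, add_mul, Finset.sum_add_distrib]
      ring
    | mul_X p j hp =>
      have hsum : ∑ i, χ (pderiv i (p * X j)) * χ (s i) = e j * (∑ i, χ (pderiv i p) * χ (s i)) + χ p * χ (s j) := by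
        rw [Finset.mul_sum, add_comm]
        simp only [Derivation.leibniz, smul_eq_mul, map_add, map_mul, χ, aeval_X, add_mul, Finset.sum_add_distrib]
        congr 1
        · rw [Finset.sum_eq_single j (fun i _ hi => by simp [hi]) (by simp)]
          simp
        · exact Finset.sum_congr rfl fun i _ => by ring
      have hz : (∑ i, χ (pderiv i p) * χ (s i)) * χ (s j) = 0 := by
        rw [Finset.sum_mul]
        exact Finset.sum_eq_zero fun i _ => by rw [mul_assoc, hI2 _ (hsI i) _ (hsI j), mul_zero]
      rw [map_mul, map_mul, hp, aeval_X, hsum]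
      simp only [χ, aeval_X, e'] at hz ⊢
      linear_combination (d * d) * hz
  have hker : RingHom.ker φ.toRingHom ≤ RingHom.ker (aeval e' : MvPolynomial (Fin n) A →ₐ[A] E).toRingHom := by
    intro f hf
    have hf0 : φ f = 0 := hf
    have hχI : ∀ g, φ g = 0 → χ g ∈ I := fun g hg => by
      rw [← Ideal.Quotient.eq_zero_iff_mem]
      exact (hχ g).trans (by rw [hg, map_zero, map_zero])
    have h1 : χ (diff s f - C c ^ N * f) = 0 := by
      refine Submodule.mul_induction_on (hsf f hf0) (fun a ha b hb => ?_) fun a b ha hb => by rw [map_add, ha, hb, add_zero]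
      rw [map_mul]; exact hI2 _ (hχI a ha) _ (hχI b hb)
    rw [map_sub, sub_eq_zero, map_mul, map_pow, ← algebraMap_eq, AlgHom.commutes] at h1
    change aeval e' f = 0
    rw [hexp, show ∑ i, χ (pderiv i f) * χ (s i) = χ (diff s f) by simp [diff], h1, ← mul_assoc, hd, one_mul, sub_self]
  let ψ : B →ₐ[A] E := AlgHom.liftOfSurjective φ hφ (aeval e') hker
  have hψu : ∀ y : Submonoid.powers (algebraMap A B c), IsUnit (ψ y) := by
    rintro ⟨_, m, rfl⟩
    rw [map_pow, AlgHom.commutes]
    exact hcu.pow m
  refine ⟨IsLocalization.liftAlgHom hψu, IsLocalization.algHom_ext (Submonoid.powers (algebraMap A B c)) ?_⟩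
  refine AlgHom.ext fun b => ?_
  obtain ⟨p, rfl⟩ := hφ b
  change mk (IsLocalization.lift hψu (algebraMap B _ (φ p))) = h (ιB (φ p))
  rw [IsLocalization.lift_eq]
  change mk (ψ (φ p)) = _
  rw [AlgHom.liftOfSurjective_apply, hexp, ← hχ, map_sub, sub_eq_self]
  exact Ideal.Quotient.eq_zero_iff_mem.2 (Ideal.mul_mem_left _ _ (Submodule.sum_mem _ fun i _ =>
    Ideal.mul_mem_left _ _ (hsI i)))

end Groth.Agent.RigidSing
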