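import Groth.Agent.RigidSing.Main
import Mathlib.RingTheory.Smooth.Basic
import Mathlib.RingTheory.Polynomial.Basic
import Mathlib.RingTheory.Localization.Away.Basic

/-!
# A power of `c` in the singular ideal when `B_c` is formally smooth
-/

noncomputable section

universe u

open MvPolynomial

namespace Groth.Agent.RigidSing

variable {A B : Type u} [CommRing A] [IsNoetherianRing A] [CommRing B] [Algebra A B] {n : ℕ}
  (φ : MvPolynomial (Fin n) A →ₐ[A] B) (hφ : Function.Surjective φ)

include hφ in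
set_option maxHeartbeats 2000000 in
theorem exists_split (c : A) (hFS : Algebra.FormallySmooth A (Localization.Away (algebraMap A B c))) :
    ∃ N, Split (A := A) c φ N := by
  classical
  let I := RingHom.ker φ
  let Q := MvPolynomial (Fin n) A ⧸ I * I
  let mk : MvPolynomial (Fin n) A →ₐ[A] Q := Ideal.Quotient.mkₐ A (I * I)
  have hle : ∀ a ∈ I * I, φ a = 0 := fun a ha => Ideal.mul_le_right ha
  let φq : Q →ₐ[A] B := Ideal.Quotient.liftₐ (I * I) φ hle
  let y : Q := mk (C c)
  have hy : φq y = algebraMap A B c := φ.commutes c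
  let L := Localization.Away y
  let Bt := Localization.Away (algebraMap A B c)
  let ιB : B →ₐ[A] Bt := IsScalarTower.toAlgHom A B Bt
  let ιQ : Q →ₐ[A] L := IsScalarTower.toAlgHom A Q L
  have hu : IsUnit (ιB (φq y)) := by rw [hy]; exact IsLocalization.Away.algebraMap_isUnit _
  let g : L →ₐ[A] Bt := IsLocalization.liftAlgHom (M := Submonoid.powers y) (f := ιB.comp φq) (by
    rintro ⟨_, m, rfl⟩
    change IsUnit (ιB (φq (y ^ m)))
    rw [map_pow, map_pow]
    exact hu.pow m)
  have hg : ∀ q, g (ιQ q) = ιB (φq q) := fun q => IsLocalization.lift_eq _ q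
  have hcu : IsUnit (ιQ y) := IsLocalization.Away.algebraMap_isUnit _
  have hgsurj : Function.Surjective g := by
    intro z
    obtain ⟨m, b, hb⟩ := IsLocalization.Away.surj (algebraMap A B c) z
    obtain ⟨p, rfl⟩ := hφ b
    refine ⟨ιQ (mk p) * ↑(hcu.pow m).unit⁻¹, ?_⟩
    have h1 : g (↑(hcu.pow m).unit) * g ↑(hcu.pow m).unit⁻¹ = 1 := by rw [← map_mul, Units.mul_inv, map_one]
    rw [IsUnit.unit_spec, map_pow, hg, hy] at h1
    rw [map_mul, hg]
    change ιB (φ p) * _ = z
    change z * _ = ιB (φ p) at hb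
    rw [← hb]
    change (ιB (algebraMap A B c)) ^ m * _ = 1 at h1
    change z * (ιB (algebraMap A B c)) ^ m * _ = z
    rw [mul_assoc, h1, mul_one]
  -- kernel elements have numerators in `I`
  have hkerg : ∀ z, g z = 0 → ∃ M, ∃ a ∈ I, z * ιQ y ^ M = ιQ (mk a) := by
    intro z hz
    obtain ⟨m, q, hq⟩ := IsLocalization.Away.surj y z
    change z * ιQ y ^ m = ιQ q at hq
    obtain ⟨p, rfl⟩ := Ideal.Quotient.mk_surjective q
    have h1 : ιB (φ p) = 0 := by
      have h2 := congrArg g hq
      rw [map_mul, hz, zero_mul, hg] at h2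
      exact h2.symm
    obtain ⟨⟨_, l, rfl⟩, hl⟩ := (IsLocalization.map_eq_zero_iff (Submonoid.powers (algebraMap A B c)) Bt (φ p)).1 h1
    refine ⟨l + m, C c ^ l * p, ?_, ?_⟩
    · rw [RingHom.mem_ker, map_mul, map_pow, ← algebraMap_eq, AlgHom.commutes]; exact hl
    · change _ = ιQ (mk (C c ^ l * p))
      rw [map_mul mk, map_pow mk, map_mul ιQ, map_pow ιQ, show ιQ (mk p) = _ from hq.symm, pow_add]
      ring
  have hprod : ∀ z w, g z = 0 → g w = 0 → z * w = 0 := by
    intro z w hz hw
    obtain ⟨M, a, ha, hza⟩ := hkerg z hz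
    obtain ⟨M', b, hb, hwb⟩ := hkerg w hw
    refine ((hcu.pow M).mul (hcu.pow M')).mul_left_eq_zero.1 ?_
    rw [show z * w * (ιQ y ^ M * ιQ y ^ M') = (z * ιQ y ^ M) * (w * ιQ y ^ M') by ring, hza, hwb, ← map_mul, ← map_mul,
      show mk (a * b) = 0 from Ideal.Quotient.eq_zero_iff_mem.2 (Ideal.mul_mem_mul ha hb), map_zero]
  have hnil : IsNilpotent (RingHom.ker (g : L →+* Bt)) := by
    refine ⟨2, le_bot_iff.1 ?_⟩
    rw [pow_two, Ideal.mul_le]
    exact fun a ha b hb => Ideal.mem_bot.2 (hprod a b ha hb)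
  let ρ : Bt →ₐ[A] L := Algebra.FormallySmooth.liftOfSurjective (AlgHom.id A Bt) g hgsurj hnil
  have hρ : ∀ z, g (ρ z) = z := fun z => Algebra.FormallySmooth.liftOfSurjective_apply _ g hgsurj hnil z
  let δ : Fin n → L := fun i => ρ (ιB (φ (X i))) - ιQ (mk (X i))
  have hgφ : ∀ p, g (ιQ (mk p)) = ιB (φ p) := fun p => hg (mk p)
  have hδ : ∀ i, g (δ i) = 0 := fun i => by rw [map_sub, hρ, hgφ, sub_self]
  have htaylor : ∀ p, ρ (ιB (φ p)) = ιQ (mk p) + ∑ i, ιQ (mk (pderiv i p)) * δ i := by
    intro p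
    induction p using MvPolynomial.induction_on with
    | C a =>
      simp only [pderiv_C, map_zero, zero_mul, Finset.sum_const_zero, add_zero]
      rw [← algebraMap_eq, AlgHom.commutes φ, AlgHom.commutes ιB, AlgHom.commutes ρ, AlgHom.commutes mk, AlgHom.commutes ιQ]
    | add p q hp hq =>
      simp only [map_add, hp, hq, add_mul, Finset.sum_add_distrib]
      ring
    | mul_X p j hp =>
      have hj : ρ (ιB (φ (X j))) = ιQ (mk (X j)) + δ j := by simp only [δ, add_sub_cancel]
      have hz : (∑ i, ιQ (mk (pderiv i p)) * δ i) * δ j = 0 := by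
        rw [Finset.sum_mul]
        exact Finset.sum_eq_zero fun i _ => by rw [mul_assoc, hprod _ _ (hδ i) (hδ j), mul_zero]
      have hs : ∑ i, ιQ (mk (pderiv i (p * X j))) * δ i =
          ιQ (mk (X j)) * (∑ i, ιQ (mk (pderiv i p)) * δ i) + ιQ (mk p) * δ j := by
        rw [Finset.mul_sum, add_comm]
        simp only [Derivation.leibniz, smul_eq_mul, map_add, map_mul, add_mul, Finset.sum_add_distrib]
        congr 1
        · rw [Finset.sum_eq_single j (fun i _ hi => by simp [hi]) (by simp)]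
          simp
        · exact Finset.sum_congr rfl fun i _ => by ring
      rw [map_mul, map_mul, map_mul, hp, hj, hs, map_mul mk, map_mul ιQ]
      linear_combination hz
  choose Ms as has hasM using fun i => hkerg _ (hδ i)
  let M := Finset.univ.sup Ms
  let a : Fin n → MvPolynomial (Fin n) A := fun i => C c ^ (M - Ms i) * as i
  have haI : ∀ i, a i ∈ I := fun i => Ideal.mul_mem_left _ _ (has i)
  have haM : ∀ i, δ i * ιQ y ^ M = ιQ (mk (a i)) := fun i => by
    simp only [a, map_mul, map_pow]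
    rw [← hasM i, mul_left_comm, ← pow_add, Nat.sub_add_cancel (Finset.le_sup (Finset.mem_univ i))]
  have hf : ∀ f ∈ I, ∃ l, C c ^ l * (diff a f + C c ^ M * f) ∈ I * I := by
    intro f hf
    have h1 := htaylor f
    rw [RingHom.mem_ker.1 hf, map_zero, map_zero] at h1
    have h2 : ιQ (mk (diff a f + C c ^ M * f)) = 0 := by
      simp only [diff, map_add, map_sum, map_mul, map_pow, ← haM]
      change _ + ιQ y ^ M * _ = 0
      have e : ∑ i, ιQ (mk (pderiv i f)) * (δ i * ιQ y ^ M) = ιQ y ^ M * ∑ i, ιQ (mk (pderiv i f)) * δ i := by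
        rw [Finset.mul_sum]
        exact Finset.sum_congr rfl fun i _ => by ring
      rw [e, ← mul_add, add_comm (Finset.sum _ _), ← h1, mul_zero]
    obtain ⟨⟨_, l, rfl⟩, hl⟩ := (IsLocalization.map_eq_zero_iff (Submonoid.powers y) L _).1 h2
    refine ⟨l, Ideal.Quotient.eq_zero_iff_mem.1 ?_⟩
    change mk (C c ^ l * _) = 0
    rw [map_mul, map_pow]
    exact hl
  choose! l hl using hf
  obtain ⟨S, hS⟩ := (IsNoetherian.noetherian I : I.FG)
  let T := S.sup l
  refine ⟨T + M, fun i => -(C c ^ T * a i), fun i => ?_, fun f hf => ?_⟩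
  · rw [map_neg, map_mul, RingHom.mem_ker.1 (haI i), mul_zero, neg_zero]
  have key : C c ^ T * (diff a f + C c ^ M * f) ∈ I * I := by
    have hfI : f ∈ Submodule.span (MvPolynomial (Fin n) A) (S : Set (MvPolynomial (Fin n) A)) := hS.symm ▸ (show f ∈ I from hf)
    induction hfI using Submodule.span_induction with
    | mem x hx =>
      have hxI : x ∈ I := hS ▸ Submodule.subset_span hx
      have h := Ideal.mul_mem_left (I * I) (C c ^ (T - l x)) (hl x hxI)
      rwa [← mul_assoc, ← pow_add, Nat.sub_add_cancel (Finset.le_sup hx)] at h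
    | zero => simp [diff]
    | add x y hx hy ihx ihy =>
      have hxI : φ x = 0 := (hS ▸ hx : x ∈ I)
      have hyI : φ y = 0 := (hS ▸ hy : y ∈ I)
      convert add_mem (ihx hxI) (ihy hyI) using 1
      rw [diff_add]; ring
    | smul r x hx ih =>
      have hxI : x ∈ I := hS ▸ hx
      rw [smul_eq_mul, diff_mul]
      convert add_mem (Ideal.mul_mem_left (I * I) r (ih hxI))
        (Ideal.mul_mem_left _ (C c ^ T) (Ideal.mul_mem_mul hxI
          (Submodule.sum_mem (I : Submodule _ _) fun i _ => Ideal.mul_mem_left I (pderiv i r) (haI i) :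
            diff a r ∈ I))) using 1
      simp only [diff]
      ring
  convert neg_mem key using 1
  simp only [diff, mul_neg, Finset.sum_neg_distrib, pow_add]
  rw [mul_add, Finset.mul_sum, neg_add, ← sub_eq_add_neg, mul_assoc]
  congr 2
  exact Finset.sum_congr rfl fun i _ => by ring

end Groth.Agent.RigidSing
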